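import Groth.Agent.S1166
import Groth.Agent.S1167
import Groth.Agent.S1169
import Groth.Agent.S1173
import Groth.Agent.S1627
import Groth.Agent.S7388
import Groth.Agent.Lib.BirMap96.SmoothCritScheme
import Groth.Prelude.Def_Curve

/-!
# The Hilbert scheme of points of a curve is proper and smooth
-/

set_option autoImplicit false
set_option linter.style.haveILetI false

universe u

open CategoryTheory CategoryTheory.Limits AlgebraicGeometry
open Groth.Agent.Lib Groth.Agent.Lib.HilbD Groth.Agent.Lib.RelDiv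

namespace Groth.Agent.Lib.HilbCurve53

theorem universallyClosed {X S : Scheme.{u}} (f : X ⟶ S) [SmoothOfRelativeDimension 1 f] [IsProper f]
    (hrep : ∀ e : ℕ, _root_.HilbD.Representable f e) (d : ℕ) (H : Over S) (Z : _root_.HilbD.Obj f d H)
    (hZ : _root_.HilbD.IsUniversal f d H Z) : UniversallyClosed H.hom := by
  induction d generalizing H with
  | zero =>
    have htop : ∀ (T : Over S) (W : _root_.HilbD.Obj f 0 T), W.1 = ⊤ := fun T W => by
      obtain ⟨h1, h2, h3⟩ := W.2.1
      have hemp : IsEmpty W.1.subscheme := ⟨fun x => by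
        have := Scheme.Hom.one_le_finrank_map (W.1.subschemeι ≫ PicF.XTproj f T) x
        rw [W.2.2] at this
        exact absurd this (by norm_num)⟩
      rw [← W.1.ker_subschemeι]
      exact (Scheme.Hom.ker_eq_top_iff_isEmpty _).mpr hemp
    let T0 : Over S := Over.mk (𝟙 S)
    haveI : IsEmpty (⊤ : (PicF.XT f T0).IdealSheafData).subscheme := by
      rw [← Scheme.Hom.ker_eq_top_iff_isEmpty (⊤ : (PicF.XT f T0).IdealSheafData).subschemeι,
        Scheme.IdealSheafData.ker_subschemeι]
    obtain ⟨s, -, -⟩ := hZ T0 ⟨⊤, Groth.Agent.S1169.finLocFreeOfDeg_zero_of_isEmpty _⟩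
    have h1 : s.left ≫ H.hom = 𝟙 S := Over.w s
    let r : H ⟶ T0 := Over.homMk H.hom (Category.comp_id _)
    have h2 : r ≫ s = 𝟙 H := Basic.hom_ext f hZ
      ((htop H (Basic.pullObj f (r ≫ s) Z)).trans (htop H (Basic.pullObj f (𝟙 H) Z)).symm)
    haveI : IsIso H.hom := ⟨s.left, congrArg (fun a => CommaMorphism.left a) h2, h1⟩
    infer_instance
  | succ n ih =>
    obtain ⟨H₀, Z₀, hZ₀⟩ := hrep n
    haveI := ih H₀ Z₀ hZ₀
    let T : Over S := Over.mk (pullback.fst H₀.hom f ≫ H₀.hom)
    let p : T ⟶ H₀ := Over.homMk (pullback.fst H₀.hom f) rfl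
    haveI : SmoothOfRelativeDimension 1 (PicF.XTproj f T) :=
      haveI := smoothOfRelativeDimension_isStableUnderBaseChange.{u} (n := 1)
      MorphismProperty.pullback_snd (P := @SmoothOfRelativeDimension 1) f T.hom ‹_›
    obtain ⟨m, hm, -⟩ := hZ T ⟨_root_.HilbD.pull f p Z₀.1 *
      _root_.HilbD.secGraph f T (pullback.snd H₀.hom f) pullback.condition.symm,
      Diff.mul_finLocFreeOfDeg (PicF.XTproj f T) _ _ n 1 (Basic.pullObj f p Z₀).2
        (Sec.finLocFreeOfDeg_secGraph f T _ _)⟩
    have hdeg := Groth.Agent.S1173.result f n H₀ Z₀ hZ₀ H Z hZ m hm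
    obtain ⟨h1, h2, h3⟩ := hdeg.1
    haveI : Surjective m.left := (Scheme.Hom.one_le_finrank_iff_surjective m.left).mp fun y => by
      rw [Pi.one_apply, hdeg.2 y]
      exact Nat.le_add_left 1 n
    haveI hT : UniversallyClosed (m.left ≫ H.hom) := by
      rw [Over.w m]
      show UniversallyClosed (pullback.fst H₀.hom f ≫ H₀.hom)
      infer_instance
    exact UniversallyClosed.of_comp_surjective m.left H.hom

theorem exists_smooth_proper (k : Type u) [Field k] (X : Scheme.{u}) (f : X ⟶ Spec (CommRingCat.of k))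
    (hX : Curve.IsSmoothProperCurve k X f) (d : ℕ) :
    ∃ (H : Over (Spec (CommRingCat.of k))) (Z : _root_.HilbD.Obj f d H),
      _root_.HilbD.IsUniversal f d H Z ∧ IsProper H.hom ∧ Smooth H.hom := by
  obtain ⟨hp, hs, hint, hdim⟩ := hX
  letI : X.Over (Spec (CommRingCat.of k)) := ⟨f⟩
  letI : (Spec (CommRingCat.of k)).Over (Spec (CommRingCat.of k)) := ⟨𝟙 _⟩
  haveI : IsProper (X ↘ Spec (CommRingCat.of k)) := hp
  haveI : Smooth (X ↘ Spec (CommRingCat.of k)) := hs
  haveI : LocallyOfFiniteType (Spec (CommRingCat.of k) ↘ Spec (CommRingCat.of k)) :=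
    inferInstanceAs (LocallyOfFiniteType (𝟙 _))
  haveI : SmoothOfRelativeDimension 1 f := by
    have h0 : topologicalKrullDim (Spec (CommRingCat.of k)) = (0 : ℕ) := by
      rw [Nat.cast_zero]
      exact (PrimeSpectrum.topologicalKrullDim_eq_ringKrullDim k).trans (ringKrullDim_eq_zero_of_field k)
    have := BirMap96.SmoothCritScheme.smoothOfRelativeDimension f (Category.comp_id f) 1 0
      (by rw [hdim, Nat.cast_one]) h0
    simpa using this
  have hrep : ∀ e, _root_.HilbD.Representable f e := fun e => by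
    refine Groth.Agent.S1166.result f e fun s x _ => ?_
    rcases Groth.Agent.S1627.result k X hdim with h | ⟨N, c, hc, -⟩
    · exact ⟨⊤, isAffineOpen_top X, fun i => trivial⟩
    · haveI := hc
      let c' : X ⟶ Proj (CohB1.polyGrading N k) := c
      haveI : IsClosedImmersion c' := hc
      obtain ⟨U, hU, hE⟩ := Groth.Agent.S7388.result (CohB1.polyGrading N k) (X := X) c' (Set.range x)
        (Set.finite_range x)
      exact ⟨U, hU, fun i => hE ⟨i, rfl⟩⟩
  obtain ⟨H, Z, hZ⟩ := hrep d
  haveI := universallyClosed f hrep d H Z hZ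
  haveI : Smooth H.hom := Groth.Agent.S1169.result f hrep d H Z hZ
  haveI := Groth.Agent.S1167.result f d H Z hZ
  exact ⟨H, Z, hZ, {}, inferInstance⟩

end Groth.Agent.Lib.HilbCurve53
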